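import Groth.Prelude.Def_W4c5suslinpi1abAdj

/-! Naturality and adjunction formulas for the projection morphisms, exterior product and shriek
products of `Def_W4c5suslinpi1abAdj`. -/

set_option autoImplicit false
universe v u

namespace K960.Adj

open CategoryTheory MonoidalCategory Functor.LaxMonoidal Functor.OplaxMonoidal

variable {C : Type u} [Category.{v} C] [MonoidalCategory C]
variable {D : Type u} [Category.{v} D] [MonoidalCategory D]

/-- sliding a tensor of morphisms past a whiskered square on the right factor -/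
theorem tensorHom_comp_whiskerLeft {A A' B B' B₁ B₁' : C} (f : A ⟶ A') (g : B ⟶ B')
    (a : B ⟶ B₁) (b : B' ⟶ B₁') (g₁ : B₁ ⟶ B₁') (h : g ≫ b = a ≫ g₁) :
    (f ⊗ₘ g) ≫ (A' ◁ b) = (A ◁ a) ≫ (f ⊗ₘ g₁) := by
  rw [MonoidalCategory.tensorHom_def, MonoidalCategory.tensorHom_def, Category.assoc,
    ← MonoidalCategory.whiskerLeft_comp, h, MonoidalCategory.whiskerLeft_comp,
    ← Category.assoc, ← Category.assoc, MonoidalCategory.whisker_exchange]

/-- sliding a tensor of morphisms past a whiskered square on the left factor -/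
theorem tensorHom_comp_whiskerRight {A A' A₁ A₁' B B' : C} (f : A ⟶ A') (g : B ⟶ B')
    (a : A ⟶ A₁) (b : A' ⟶ A₁') (f₁ : A₁ ⟶ A₁') (h : f ≫ b = a ≫ f₁) :
    (f ⊗ₘ g) ≫ (b ▷ B') = (a ▷ B) ≫ (f₁ ⊗ₘ g) := by
  rw [MonoidalCategory.tensorHom_def', MonoidalCategory.tensorHom_def', Category.assoc,
    ← MonoidalCategory.comp_whiskerRight, h, MonoidalCategory.comp_whiskerRight,
    ← Category.assoc, ← Category.assoc, ← MonoidalCategory.whisker_exchange]

section Single

variable {L : C ⥤ D} {R : D ⥤ C} (adj : L ⊣ R) [R.LaxMonoidal]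

theorem projR_naturality {A A' : D} {B B' : C} (f : A ⟶ A') (g : B ⟶ B') :
    (R.map f ⊗ₘ g) ≫ W4c5suslinpi1ab.projR adj A' B' =
      W4c5suslinpi1ab.projR adj A B ≫ R.map (f ⊗ₘ L.map g) := by
  unfold W4c5suslinpi1ab.projR
  have h1 : g ≫ adj.unit.app B' = adj.unit.app B ≫ R.map (L.map g) := adj.unit.naturality g
  rw [Category.assoc, ← μ_natural, ← Category.assoc, ← Category.assoc]
  congr 1
  exact tensorHom_comp_whiskerLeft _ _ _ _ _ h1

theorem projL_naturality {A A' : C} {B B' : D} (f : A ⟶ A') (g : B ⟶ B') :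
    (f ⊗ₘ R.map g) ≫ W4c5suslinpi1ab.projL adj A' B' =
      W4c5suslinpi1ab.projL adj A B ≫ R.map (L.map f ⊗ₘ g) := by
  unfold W4c5suslinpi1ab.projL
  have h1 : f ≫ adj.unit.app A' = adj.unit.app A ≫ R.map (L.map f) := adj.unit.naturality f
  rw [Category.assoc, ← μ_natural, ← Category.assoc, ← Category.assoc]
  congr 1
  exact tensorHom_comp_whiskerRight _ _ _ _ _ h1

variable [L.OplaxMonoidal] [adj.IsMonoidal]

theorem homEquiv_symm_projR (A : D) (B : C) :
    (adj.homEquiv _ _).symm (W4c5suslinpi1ab.projR adj A B) =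
      δ L (R.obj A) B ≫ (adj.counit.app A ▷ L.obj B) := by
  rw [Adjunction.homEquiv_counit]
  unfold W4c5suslinpi1ab.projR
  have h : L.map (R.obj A ◁ adj.unit.app B) ≫ δ L (R.obj A) (R.obj (L.obj B)) =
      δ L (R.obj A) B ≫ L.obj (R.obj A) ◁ L.map (adj.unit.app B) :=
    (δ_natural_right L (R.obj A) (adj.unit.app B)).symm
  rw [L.map_comp, Category.assoc, adj.map_μ_comp_counit_app_tensor, ← Category.assoc, h,
    Category.assoc]
  congr 1
  have h2 : L.map (adj.unit.app B) ≫ adj.counit.app (L.obj B) = 𝟙 _ :=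
    adj.left_triangle_components B
  calc (L.obj (R.obj A) ◁ L.map (adj.unit.app B)) ≫
        (adj.counit.app A ⊗ₘ adj.counit.app (L.obj B))
      = (L.obj (R.obj A) ◁ (L.map (adj.unit.app B) ≫ adj.counit.app (L.obj B))) ≫
          (adj.counit.app A ▷ L.obj B) := by
        rw [MonoidalCategory.tensorHom_def', MonoidalCategory.whiskerLeft_comp, Category.assoc]
        rfl
    _ = adj.counit.app A ▷ L.obj B := by
        rw [h2, MonoidalCategory.whiskerLeft_id, Category.id_comp]

theorem homEquiv_symm_projL (A : C) (B : D) :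
    (adj.homEquiv _ _).symm (W4c5suslinpi1ab.projL adj A B) =
      δ L A (R.obj B) ≫ (L.obj A ◁ adj.counit.app B) := by
  rw [Adjunction.homEquiv_counit]
  unfold W4c5suslinpi1ab.projL
  have h : L.map (adj.unit.app A ▷ R.obj B) ≫ δ L (R.obj (L.obj A)) (R.obj B) =
      δ L A (R.obj B) ≫ L.map (adj.unit.app A) ▷ L.obj (R.obj B) :=
    (δ_natural_left L (adj.unit.app A) (R.obj B)).symm
  rw [L.map_comp, Category.assoc, adj.map_μ_comp_counit_app_tensor, ← Category.assoc, h,
    Category.assoc]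
  congr 1
  have h2 : L.map (adj.unit.app A) ≫ adj.counit.app (L.obj A) = 𝟙 _ :=
    adj.left_triangle_components A
  calc (L.map (adj.unit.app A) ▷ L.obj (R.obj B)) ≫
        (adj.counit.app (L.obj A) ⊗ₘ adj.counit.app B)
      = ((L.map (adj.unit.app A) ≫ adj.counit.app (L.obj A)) ▷ L.obj (R.obj B)) ≫
          (L.obj A ◁ adj.counit.app B) := by
        rw [MonoidalCategory.tensorHom_def, MonoidalCategory.comp_whiskerRight, Category.assoc]
        rfl
    _ = L.obj A ◁ adj.counit.app B := by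
        rw [h2, MonoidalCategory.id_whiskerRight, Category.id_comp]

end Single

section Cup

variable {L : C ⥤ D} {R : D ⥤ C} {S : C ⥤ D} (adj : L ⊣ R) (adj' : R ⊣ S) [R.LaxMonoidal]
  [∀ (A : D) (B : C), IsIso (W4c5suslinpi1ab.projR adj A B)]

theorem cupShriek_naturality_right (A : C) {B B' : C} (g : B ⟶ B') :
    W4c5suslinpi1ab.cupShriek adj adj' A B ≫ S.map (A ◁ g) =
      (S.obj A ◁ L.map g) ≫ W4c5suslinpi1ab.cupShriek adj adj' A B' := by
  unfold W4c5suslinpi1ab.cupShriek
  rw [← Adjunction.homEquiv_naturality_right, ← Adjunction.homEquiv_naturality_left]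
  congr 1
  have h := projR_naturality adj (𝟙 (S.obj A)) g
  rw [Functor.map_id, MonoidalCategory.id_tensorHom, MonoidalCategory.id_tensorHom] at h
  have h2 : (adj'.counit.app A ▷ B) ≫ (A ◁ g) =
      (R.obj (S.obj A) ◁ g) ≫ (adj'.counit.app A ▷ B') :=
    (MonoidalCategory.whisker_exchange _ _).symm
  rw [Category.assoc, h2, ← Category.assoc, ← Category.assoc]
  congr 1
  rw [IsIso.inv_comp_eq, ← Category.assoc, ← h, Category.assoc, IsIso.hom_inv_id, Category.comp_id]

end Cup

section Square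

variable {S₀ : Type u} [Category.{v} S₀] [MonoidalCategory S₀]
variable {Y₁ : Type u} [Category.{v} Y₁] [MonoidalCategory Y₁]
variable {Y₂ : Type u} [Category.{v} Y₂]
variable {X : Type u} [Category.{v} X] [MonoidalCategory X]
variable {fL : S₀ ⥤ Y₁} {fR : Y₁ ⥤ S₀} (adjf : fL ⊣ fR) [fR.LaxMonoidal]
variable {gR : Y₂ ⥤ S₀}
variable {pL : Y₁ ⥤ X} {pR : X ⥤ Y₁} (adjp : pL ⊣ pR) [pR.LaxMonoidal]
variable {qL : Y₂ ⥤ X} {qR : X ⥤ Y₂} (adjq : qL ⊣ qR)
variable (ν : qR ⋙ gR ⟶ pR ⋙ fR)

/-- the adjoint of the exterior product -/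
theorem homEquiv_symm_extProd [fL.OplaxMonoidal] [adjf.IsMonoidal] [pL.OplaxMonoidal]
    [adjp.IsMonoidal] (A : Y₁) (B : Y₂) :
    ((adjf.comp adjp).homEquiv _ _).symm (W4c5suslinpi1ab.extProd adjf adjp adjq ν A B) =
      δ (fL ⋙ pL) (fR.obj A) (gR.obj B) ≫
        (pL.map (adjf.counit.app A) ⊗ₘ
          (pL.map ((W4c5suslinpi1ab.bcMor adjf adjq ν).app B) ≫ adjp.counit.app (qL.obj B))) := by
  have e1 : ((adjf.comp adjp).homEquiv _ _).symm (W4c5suslinpi1ab.extProd adjf adjp adjq ν A B) =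
      (adjp.homEquiv _ _).symm ((adjf.homEquiv _ _).symm
        (W4c5suslinpi1ab.extProd adjf adjp adjq ν A B)) := by
    rw [Adjunction.comp_homEquiv]; rfl
  rw [e1]
  have e2 : (adjf.homEquiv _ _).symm (W4c5suslinpi1ab.extProd adjf adjp adjq ν A B) =
      (δ fL (fR.obj A) (gR.obj B) ≫
        (adjf.counit.app A ⊗ₘ (W4c5suslinpi1ab.bcMor adjf adjq ν).app B)) ≫
          W4c5suslinpi1ab.projL adjp A (qL.obj B) := by
    unfold W4c5suslinpi1ab.extProd
    rw [← fR.map_comp, Adjunction.homEquiv_naturality_right_symm, homEquiv_symm_projR,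
      ← Category.assoc]
    congr 1
    rw [Category.assoc]
    congr 1
    exact (MonoidalCategory.tensorHom_def _ _).symm
  have e3 : (adjp.homEquiv _ _).symm ((δ fL (fR.obj A) (gR.obj B) ≫
        (adjf.counit.app A ⊗ₘ (W4c5suslinpi1ab.bcMor adjf adjq ν).app B)) ≫
          W4c5suslinpi1ab.projL adjp A (qL.obj B)) =
      pL.map (δ fL (fR.obj A) (gR.obj B) ≫
        (adjf.counit.app A ⊗ₘ (W4c5suslinpi1ab.bcMor adjf adjq ν).app B)) ≫
      (adjp.homEquiv (A ⊗ pR.obj (qL.obj B)) (pL.obj A ⊗ qL.obj B)).symm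
        (W4c5suslinpi1ab.projL adjp A (qL.obj B)) :=
    Adjunction.homEquiv_naturality_left_symm _ _ _
  rw [e2, e3, homEquiv_symm_projL, comp_δ, pL.map_comp, Category.assoc, Category.assoc]
  congr 1
  have h : pL.map (adjf.counit.app A ⊗ₘ (W4c5suslinpi1ab.bcMor adjf adjq ν).app B) ≫
      δ pL A (pR.obj (qL.obj B)) =
      δ pL (fL.obj (fR.obj A)) (fL.obj (gR.obj B)) ≫
        (pL.map (adjf.counit.app A) ⊗ₘ pL.map ((W4c5suslinpi1ab.bcMor adjf adjq ν).app B)) :=
    (δ_natural pL _ _).symm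
  rw [← Category.assoc, h, Category.assoc]
  congr 1
  have h5 : (pL.map (adjf.counit.app A) ⊗ₘ pL.map ((W4c5suslinpi1ab.bcMor adjf adjq ν).app B)) ≫
      (pL.obj A ◁ adjp.counit.app (qL.obj B)) =
      (pL.map (adjf.counit.app A) ⊗ₘ
        (pL.map ((W4c5suslinpi1ab.bcMor adjf adjq ν).app B) ≫ adjp.counit.app (qL.obj B))) := by
    have h6 : pL.map (adjf.counit.app A) ≫ 𝟙 (pL.obj A) = pL.map (adjf.counit.app A) :=
      Category.comp_id _
    rw [← MonoidalCategory.id_tensorHom]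
    refine (MonoidalCategory.tensorHom_comp_tensorHom _ _ _ _).trans ?_
    exact congrArg (fun z => (z ⊗ₘ _)) h6
  exact h5

theorem extProd_naturality {A A' : Y₁} {B B' : Y₂} (f : A ⟶ A') (g : B ⟶ B') :
    (fR.map f ⊗ₘ gR.map g) ≫ W4c5suslinpi1ab.extProd adjf adjp adjq ν A' B' =
      W4c5suslinpi1ab.extProd adjf adjp adjq ν A B ≫ fR.map (pR.map (pL.map f ⊗ₘ qL.map g)) := by
  unfold W4c5suslinpi1ab.extProd
  have h1 := projR_naturality adjf f (gR.map g)
  have h2 := projL_naturality adjp f (qL.map g)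
  have h3 : fL.map (gR.map g) ≫ (W4c5suslinpi1ab.bcMor adjf adjq ν).app B' =
    (W4c5suslinpi1ab.bcMor adjf adjq ν).app B ≫ pR.map (qL.map g) :=
      (W4c5suslinpi1ab.bcMor adjf adjq ν).naturality g
  rw [← Category.assoc, h1, Category.assoc, Category.assoc, Category.assoc]
  congr 1
  rw [← fR.map_comp, ← fR.map_comp, ← fR.map_comp, ← fR.map_comp]
  congr 1
  rw [← h2, ← Category.assoc, ← Category.assoc]
  congr 1
  exact tensorHom_comp_whiskerLeft _ _ _ _ _ h3

variable {fS : S₀ ⥤ Y₁} (adjf' : fR ⊣ fS) {gS : S₀ ⥤ Y₂} (adjg' : gR ⊣ gS)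
variable {pS : Y₁ ⥤ X} (adjp' : pR ⊣ pS)
variable [∀ (A : Y₁) (B : S₀), IsIso (W4c5suslinpi1ab.projR adjf A B)]
variable [∀ (A : Y₁) (B : X), IsIso (W4c5suslinpi1ab.projL adjp A B)]
variable [∀ B : Y₂, IsIso ((W4c5suslinpi1ab.bcMor adjf adjq ν).app B)]

theorem isIso_extProd (A : Y₁) (B : Y₂) :
    IsIso (W4c5suslinpi1ab.extProd adjf adjp adjq ν A B) := by
  unfold W4c5suslinpi1ab.extProd
  infer_instance

theorem extProd_comp_map_symm (A B : S₀) :
    W4c5suslinpi1ab.extProd adjf adjp adjq ν (fS.obj A) (gS.obj B) ≫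
      fR.map ((adjp'.homEquiv _ _).symm
        (W4c5suslinpi1ab.prodShriek adjf adjf' adjg' adjp adjp' adjq ν A B)) =
      W4c5suslinpi1ab.projR adjf (fS.obj A) (gR.obj (gS.obj B)) ≫
        fR.map (W4c5suslinpi1ab.cupShriek adjf adjf' A (gR.obj (gS.obj B)) ≫
          fS.map (A ◁ adjg'.counit.app B)) := by
  unfold W4c5suslinpi1ab.prodShriek W4c5suslinpi1ab.extProd
  rw [Equiv.symm_apply_apply, Category.assoc, Category.assoc, ← fR.map_comp, ← fR.map_comp]
  congr 2
  rw [IsIso.hom_inv_id_assoc, ← MonoidalCategory.whiskerLeft_comp_assoc, IsIso.hom_inv_id]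
  simp

/-- exterior product followed by the adjoint of the shriek product is the tensor product of the
counits -/
theorem extProd_comp_symm_prodShriek (A B : S₀) :
    W4c5suslinpi1ab.extProd adjf adjp adjq ν (fS.obj A) (gS.obj B) ≫
      ((adjp'.comp adjf').homEquiv _ _).symm
        (W4c5suslinpi1ab.prodShriek adjf adjf' adjg' adjp adjp' adjq ν A B) =
      (adjf'.counit.app A ⊗ₘ adjg'.counit.app B) := by
  have e1 : ((adjp'.comp adjf').homEquiv _ _).symm
        (W4c5suslinpi1ab.prodShriek adjf adjf' adjg' adjp adjp' adjq ν A B) =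
      (adjf'.homEquiv _ _).symm ((adjp'.homEquiv _ _).symm
        (W4c5suslinpi1ab.prodShriek adjf adjf' adjg' adjp adjp' adjq ν A B)) := by
    rw [Adjunction.comp_homEquiv]; rfl
  rw [e1, Adjunction.homEquiv_counit (adj := adjf'), ← Category.assoc, extProd_comp_map_symm,
    Category.assoc, ← Adjunction.homEquiv_counit (adj := adjf'),
    Adjunction.homEquiv_naturality_right_symm]
  unfold W4c5suslinpi1ab.cupShriek
  rw [Equiv.symm_apply_apply, Category.assoc, IsIso.hom_inv_id_assoc]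
  exact (MonoidalCategory.tensorHom_def _ _).symm

/-- exterior product, shriek product, counit equals the projection morphism and the cup product -/
theorem extProd_prodShriek_counit (A B : S₀) :
    W4c5suslinpi1ab.extProd adjf adjp adjq ν (fS.obj A) (gS.obj B) ≫
      fR.map (pR.map (W4c5suslinpi1ab.prodShriek adjf adjf' adjg' adjp adjp' adjq ν A B)) ≫
        fR.map (adjp'.counit.app (fS.obj (A ⊗ B))) =
      (fR.obj (fS.obj A) ◁ adjg'.counit.app B) ≫ W4c5suslinpi1ab.projR adjf (fS.obj A) B ≫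
        fR.map (W4c5suslinpi1ab.cupShriek adjf adjf' A B) := by
  have h := extProd_comp_map_symm adjf adjp adjq ν adjf' adjg' adjp' A B
  rw [Adjunction.homEquiv_counit, fR.map_comp] at h
  rw [h, cupShriek_naturality_right, fR.map_comp, ← Category.assoc, ← Category.assoc]
  congr 1
  have h2 := projR_naturality adjf (𝟙 (fS.obj A)) (adjg'.counit.app B)
  rw [Functor.map_id, MonoidalCategory.id_tensorHom, MonoidalCategory.id_tensorHom] at h2
  exact h2.symm

/-- the compatibility of a product with the shriek product is the Fubini identity -/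
theorem prodShriek_compatible_iff (A B : S₀) (A' : Y₁) (B' : Y₂) (C' : X)
    (trA : A' ⟶ fS.obj A) (trB : B' ⟶ gS.obj B) (trC : C' ⟶ pS.obj (fS.obj (A ⊗ B)))
    (m : pL.obj A' ⊗ qL.obj B' ⟶ C') :
    ((pL.map trA ⊗ₘ qL.map trB) ≫
        W4c5suslinpi1ab.prodShriek adjf adjf' adjg' adjp adjp' adjq ν A B = m ≫ trC) ↔
      (((adjf'.homEquiv _ _).symm trA ⊗ₘ (adjg'.homEquiv _ _).symm trB) =
        W4c5suslinpi1ab.extProd adjf adjp adjq ν A' B' ≫ fR.map (pR.map m) ≫
          ((adjp'.comp adjf').homEquiv _ _).symm trC) := by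
  have hi := isIso_extProd adjf adjp adjq ν A' B'
  rw [← ((adjp'.comp adjf').homEquiv _ _).symm.injective.eq_iff,
    Adjunction.homEquiv_naturality_left_symm, Adjunction.homEquiv_naturality_left_symm,
    ← cancel_epi (W4c5suslinpi1ab.extProd adjf adjp adjq ν A' B')]
  have e : W4c5suslinpi1ab.extProd adjf adjp adjq ν A' B' ≫
      (pR ⋙ fR).map (pL.map trA ⊗ₘ qL.map trB) ≫ ((adjp'.comp adjf').homEquiv _ _).symm
        (W4c5suslinpi1ab.prodShriek adjf adjf' adjg' adjp adjp' adjq ν A B) =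
      ((adjf'.homEquiv _ _).symm trA ⊗ₘ (adjg'.homEquiv _ _).symm trB) := by
    have hn := extProd_naturality adjf adjp adjq ν trA trB
    rw [Functor.comp_map, ← Category.assoc, ← hn, Category.assoc, extProd_comp_symm_prodShriek,
      Adjunction.homEquiv_counit, Adjunction.homEquiv_counit]
    exact MonoidalCategory.tensorHom_comp_tensorHom _ _ _ _
  rw [e]
  exact Iff.rfl

end Square

end K960.Adj
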